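import Groth.Prelude.Def_W4c5modbuncurvesppStab
import Groth.Agent.LabG84.Cycles
import Groth.Agent.LabG84.TreeMatrix

/-!
# Stability of multidegree data on graphs: elementary sets, trees
-/

set_option autoImplicit false
universe u

open Finset LabGraph PhiStab Groth.Agent.LabG84.Cycles Groth.Agent.LabG84.TreeMatrix

namespace Groth.Agent.PhiStabLib

variable {V E : Type u} [Fintype V] [Fintype E] [DecidableEq V] [DecidableEq E]

/-- The slack of a datum on a vertex set. -/
noncomputable def val (ends : E → V × V) (φ : V → ℝ) (m : V → ℤ) (N : Finset E) (S : Finset V) : ℝ :=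
  (degOn ends m N S : ℝ) - (∑ v ∈ S, φ v) + (cut ends S : ℝ) / 2

lemma isSemistable_iff {ends : E → V × V} {φ : V → ℝ} {m : V → ℤ} {N : Finset E} :
    IsSemistable ends φ m N ↔
      ∀ S : Finset V, S.Nonempty → S ≠ univ → 0 ≤ val ends φ m N S := by
  refine forall_congr' fun S => forall_congr' fun _ => forall_congr' fun _ => ?_
  unfold val
  constructor <;> intro h <;> linarith

lemma isStable_iff {ends : E → V × V} {φ : V → ℝ} {m : V → ℤ} {N : Finset E} :
    IsStable ends φ m N ↔ ∀ S : Finset V, S.Nonempty → S ≠ univ → 0 < val ends φ m N S := by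
  refine forall_congr' fun S => forall_congr' fun _ => forall_congr' fun _ => ?_
  unfold val
  constructor <;> intro h <;> linarith

/-- Contribution of an edge to the slack. -/
noncomputable def ew (ends : E → V × V) (N : Finset E) (S : Finset V) (e : E) : ℝ :=
  (if e ∈ N then (if (ends e).1 ∈ S ∧ (ends e).2 ∈ S then 1 else 0) else 0) +
    (if ((ends e).1 ∈ S ∧ (ends e).2 ∉ S) ∨ ((ends e).1 ∉ S ∧ (ends e).2 ∈ S) then 1 / 2 else 0)

lemma val_eq_sum (ends : E → V × V) (φ : V → ℝ) (m : V → ℤ) (N : Finset E) (S : Finset V) :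
    val ends φ m N S = ∑ v ∈ S, ((m v : ℝ) - φ v) + ∑ e, ew ends N S e := by
  have h1 : ((N ∩ PhiStab.inner ends S).card : ℝ) =
      ∑ e, (if e ∈ N then (if (ends e).1 ∈ S ∧ (ends e).2 ∈ S then (1 : ℝ) else 0) else 0) := by
    have : N ∩ PhiStab.inner ends S =
        univ.filter fun e => e ∈ N ∧ ((ends e).1 ∈ S ∧ (ends e).2 ∈ S) := by
      ext e; simp [PhiStab.inner]
    rw [this, ← Finset.sum_boole]
    exact sum_congr rfl fun e _ => by rw [ite_and]
  have h2 : (cut ends S : ℝ) / 2 = ∑ e,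
      (if ((ends e).1 ∈ S ∧ (ends e).2 ∉ S) ∨ ((ends e).1 ∉ S ∧ (ends e).2 ∈ S)
        then (1 : ℝ) / 2 else 0) := by
    rw [cut, ← Finset.sum_boole, sum_div]
    exact sum_congr rfl fun e _ => by split_ifs <;> simp
  unfold val degOn ew
  push_cast
  rw [h1, h2, sum_add_distrib, sum_sub_distrib]
  ring

/-- No edge joins `A` and `B`. -/
def NoEdge (ends : E → V × V) (A B : Finset V) : Prop :=
  ∀ e : E, ¬ (((ends e).1 ∈ A ∧ (ends e).2 ∈ B) ∨ ((ends e).1 ∈ B ∧ (ends e).2 ∈ A))

lemma val_union {ends : E → V × V} {φ : V → ℝ} {m : V → ℤ} {N : Finset E} {A B : Finset V}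
    (hd : Disjoint A B) (hno : NoEdge ends A B) :
    val ends φ m N (A ∪ B) = val ends φ m N A + val ends φ m N B := by
  rw [val_eq_sum, val_eq_sum, val_eq_sum, sum_union hd]
  have : ∑ e, ew ends N (A ∪ B) e = ∑ e, ew ends N A e + ∑ e, ew ends N B e := by
    rw [← sum_add_distrib]
    refine sum_congr rfl fun e _ => ?_
    have h := hno e
    have d1 : (ends e).1 ∈ A → (ends e).1 ∉ B := fun ha hb => disjoint_left.1 hd ha hb
    have d2 : (ends e).2 ∈ A → (ends e).2 ∉ B := fun ha hb => disjoint_left.1 hd ha hb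
    unfold ew
    simp only [mem_union]
    by_cases h1 : (ends e).1 ∈ A <;> by_cases h2 : (ends e).2 ∈ A <;>
      by_cases h3 : (ends e).1 ∈ B <;> by_cases h4 : (ends e).2 ∈ B <;>
      simp_all
  rw [this]
  ring

lemma val_compl_union {ends : E → V × V} {φ : V → ℝ} {m : V → ℤ} {N : Finset E} {A B : Finset V}
    (htot : ∑ v, φ v = (totDeg m N : ℝ)) (hd : Disjoint A B) (hno : NoEdge ends A B) :
    val ends φ m N (A ∪ B)ᶜ = val ends φ m N Aᶜ + val ends φ m N Bᶜ := by
  have key : ∀ e, ew ends N Aᶜ e + ew ends N Bᶜ e =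
      ew ends N (A ∪ B)ᶜ e + (if e ∈ N then (1 : ℝ) else 0) := by
    intro e
    have h := hno e
    have d1 : (ends e).1 ∈ A → (ends e).1 ∉ B := fun ha hb => disjoint_left.1 hd ha hb
    have d2 : (ends e).2 ∈ A → (ends e).2 ∉ B := fun ha hb => disjoint_left.1 hd ha hb
    unfold ew
    simp only [mem_compl, mem_union]
    by_cases h0 : e ∈ N <;> by_cases h1 : (ends e).1 ∈ A <;> by_cases h2 : (ends e).2 ∈ A <;>
      by_cases h3 : (ends e).1 ∈ B <;> by_cases h4 : (ends e).2 ∈ B <;>
      simp_all <;> norm_num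
  have hN : ∑ e, (if e ∈ N then (1 : ℝ) else 0) = (N.card : ℝ) := by simp
  have hm : ∑ v, ((m v : ℝ) - φ v) = -(N.card : ℝ) := by
    rw [sum_sub_distrib, htot, totDeg]
    push_cast
    ring
  have hA := sum_add_sum_compl A fun v => (m v : ℝ) - φ v
  have hB := sum_add_sum_compl B fun v => (m v : ℝ) - φ v
  have hC := sum_add_sum_compl (A ∪ B) fun v => (m v : ℝ) - φ v
  have hk := sum_congr (rfl : (univ : Finset E) = univ) fun e _ => key e
  rw [sum_add_distrib, sum_add_distrib, hN] at hk
  rw [sum_union hd] at hC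
  rw [val_eq_sum, val_eq_sum, val_eq_sum]
  linarith

/-- The subgraph induced on `S` is connected. -/
def Conn (ends : E → V × V) (S : Finset V) : Prop :=
  S.Nonempty ∧ ∀ v ∈ S, ∀ w ∈ S, Relation.ReflTransGen (AdjIn ends (PhiStab.inner ends S)) v w

lemma adjIn_inner_iff {ends : E → V × V} {S : Finset V} {v w : V} :
    AdjIn ends (PhiStab.inner ends S) v w ↔ v ∈ S ∧ w ∈ S ∧ LabGraph.Adj ends v w := by
  constructor
  · rintro ⟨e, he, h⟩
    simp only [PhiStab.inner, mem_filter, mem_univ, true_and] at he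
    refine ⟨?_, ?_, e, h⟩ <;> rcases h with h | h <;> rw [h] at he
    · exact he.1
    · exact he.2
    · exact he.2
    · exact he.1
  · rintro ⟨hv, hw, e, h⟩
    refine ⟨e, ?_, h⟩
    simp only [PhiStab.inner, mem_filter, mem_univ, true_and]
    rcases h with h | h <;> rw [h] <;> simp [hv, hw]

lemma conn_iff {ends : E → V × V} {S : Finset V} :
    LabGraph.Connected (indEnds ends S) ↔ Conn ends S := by
  constructor
  · rintro ⟨⟨⟨v₀, hv₀⟩⟩, h⟩
    refine ⟨⟨v₀, hv₀⟩, fun v hv w hw => ?_⟩
    refine Relation.ReflTransGen.lift (fun x : {v : V // v ∈ S} => x.1) ?_ _ _ (h ⟨v, hv⟩ ⟨w, hw⟩)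
    rintro a b ⟨⟨e, he⟩, h'⟩
    refine ⟨e, he, ?_⟩
    rcases h' with h' | h'
    · exact Or.inl (Prod.ext (congrArg (fun p => p.1.1) h') (congrArg (fun p => p.2.1) h'))
    · exact Or.inr (Prod.ext (congrArg (fun p => p.1.1) h') (congrArg (fun p => p.2.1) h'))
  · rintro ⟨⟨v₀, hv₀⟩, h⟩
    refine ⟨⟨⟨v₀, hv₀⟩⟩, ?_⟩
    rintro ⟨v, hv⟩ ⟨w, hw⟩
    have key : ∀ w, Relation.ReflTransGen (AdjIn ends (PhiStab.inner ends S)) v w → ∀ hw : w ∈ S,
        Relation.ReflTransGen (LabGraph.Adj (indEnds ends S)) ⟨v, hv⟩ ⟨w, hw⟩ := by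
      intro w hr
      induction hr with
      | refl => intro _; exact .refl
      | @tail b c _ hbc ih =>
        intro hc
        obtain ⟨hb, -, -⟩ := adjIn_inner_iff.1 hbc
        refine (ih hb).tail ?_
        obtain ⟨e, he, h'⟩ := hbc
        refine ⟨⟨e, he⟩, ?_⟩
        rcases h' with h' | h'
        · exact Or.inl (Prod.ext (Subtype.ext (congrArg Prod.fst h'))
            (Subtype.ext (congrArg Prod.snd h')))
        · exact Or.inr (Prod.ext (Subtype.ext (congrArg Prod.fst h'))
            (Subtype.ext (congrArg Prod.snd h')))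
    exact key w (h v hv w hw) hw

lemma inner_mono {ends : E → V × V} {S T : Finset V} (h : S ⊆ T) :
    PhiStab.inner ends S ⊆ PhiStab.inner ends T := fun e he => by
  simp only [PhiStab.inner, mem_filter, mem_univ, true_and] at he ⊢
  exact ⟨h he.1, h he.2⟩

lemma reach_mono {ends : E → V × V} {T T' : Finset E} (h : T ⊆ T') {v w : V}
    (hr : Relation.ReflTransGen (AdjIn ends T) v w) :
    Relation.ReflTransGen (AdjIn ends T') v w :=
  Relation.ReflTransGen.mono (fun _ _ ⟨e, he, h'⟩ => ⟨e, h he, h'⟩) _ _ hr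

lemma exists_split {ends : E → V × V} {S : Finset V} (hne : S.Nonempty) (hS : ¬ Conn ends S) :
    ∃ A B : Finset V, A.Nonempty ∧ B.Nonempty ∧ Disjoint A B ∧ A ∪ B = S ∧ NoEdge ends A B := by
  classical
  have : ∃ v ∈ S, ∃ w ∈ S, ¬ Relation.ReflTransGen (AdjIn ends (PhiStab.inner ends S)) v w := by
    by_contra h
    push Not at h
    exact hS ⟨hne, h⟩
  obtain ⟨v, hv, w, hw, hvw⟩ := this
  let A := S.filter fun x => Relation.ReflTransGen (AdjIn ends (PhiStab.inner ends S)) v x
  refine ⟨A, S \ A, ⟨v, mem_filter.2 ⟨hv, .refl⟩⟩, ⟨w, ?_⟩, disjoint_sdiff, ?_, ?_⟩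
  · simp [A, hw, hvw]
  · rw [union_sdiff_of_subset (filter_subset _ _)]
  · intro e h
    rcases h with ⟨ha, hb⟩ | ⟨hb, ha⟩ <;>
    · obtain ⟨haS, har⟩ := mem_filter.1 ha
      obtain ⟨hbS, hbn⟩ := mem_sdiff.1 hb
      refine hbn (mem_filter.2 ⟨hbS, har.tail ?_⟩)
      refine adjIn_inner_iff.2 ⟨haS, hbS, e, ?_⟩
      first
        | exact Or.inl rfl
        | exact Or.inr rfl

/-- In a connected graph a connected set grown by a piece of its complement separated from the rest
stays connected. -/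
lemma conn_compl_of_split {ends : E → V × V} (hconn : LabGraph.Connected ends) {A B : Finset V}
    (hS : Conn ends (A ∪ B)ᶜ) (hd : Disjoint A B) (hno : NoEdge ends A B) : Conn ends Aᶜ := by
  obtain ⟨s, hs⟩ := hS.1
  have hsA : s ∈ Aᶜ := by simp at hs ⊢; exact hs.1
  have key : ∀ v, Relation.ReflTransGen (LabGraph.Adj ends) v s → v ∉ A →
      Relation.ReflTransGen (AdjIn ends (PhiStab.inner ends Aᶜ)) v s := by
    intro v hr
    induction hr using Relation.ReflTransGen.head_induction_on with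
    | refl => exact fun _ => .refl
    | @head a c hac _ ih =>
      intro haA
      by_cases hcA : c ∈ A
      · have haB : a ∉ B := by
          intro haB
          obtain ⟨e, he | he⟩ := hac
          · exact hno e (Or.inr (by rw [he]; exact ⟨haB, hcA⟩))
          · exact hno e (Or.inl (by rw [he]; exact ⟨hcA, haB⟩))
        exact reach_mono (inner_mono (compl_subset_compl.2 subset_union_left))
          (hS.2 a (by simp [haA, haB]) s hs)
      · exact (ih hcA).head (adjIn_inner_iff.2 ⟨mem_compl.2 haA, mem_compl.2 hcA, hac⟩)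
  refine ⟨⟨s, hsA⟩, fun v hv w hw => ?_⟩
  exact (key v (hconn.2 v s) (mem_compl.1 hv)).trans
    (reach_symm (key w (hconn.2 w s) (mem_compl.1 hw)))

/-- It suffices to test elementary sets. -/
theorem forall_of_elementary {ends : E → V × V} (hconn : LabGraph.Connected ends) {φ : V → ℝ}
    {m : V → ℤ} {N : Finset E} (htot : ∑ v, φ v = (totDeg m N : ℝ)) (P : ℝ → Prop)
    (hP : ∀ x y, P x → P y → P (x + y))
    (h : ∀ S : Finset V, IsElementary ends S → P (val ends φ m N S)) :
    ∀ S : Finset V, S.Nonempty → S ≠ univ → P (val ends φ m N S) := by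
  have h1 : ∀ T : Finset V, T.Nonempty → Conn ends Tᶜ → P (val ends φ m N Tᶜ) := by
    intro T
    induction T using Finset.strongInduction with
    | _ T ih =>
      intro hT hTc
      by_cases hc : Conn ends T
      · exact h _ ⟨conn_iff.2 hTc, by rw [compl_compl]; exact conn_iff.2 hc⟩
      · obtain ⟨A, B, hA, hB, hd, rfl, hno⟩ := exists_split hT hc
        have hno' : NoEdge ends B A := fun e he => hno e he.symm
        rw [val_compl_union htot hd hno]
        refine hP _ _ (ih A ?_ hA (conn_compl_of_split hconn hTc hd hno))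
          (ih B ?_ hB (conn_compl_of_split hconn (by rwa [union_comm] at hTc) hd.symm hno'))
        · refine Finset.ssubset_iff_subset_ne.2 ⟨subset_union_left, fun he => ?_⟩
          obtain ⟨b, hb⟩ := hB
          exact disjoint_right.1 hd hb (he ▸ mem_union_right A hb)
        · refine Finset.ssubset_iff_subset_ne.2 ⟨subset_union_right, fun he => ?_⟩
          obtain ⟨a, ha⟩ := hA
          exact disjoint_left.1 hd ha (he ▸ mem_union_left B ha)
  intro S
  induction S using Finset.strongInduction with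
  | _ S ih =>
    intro hS hSne
    by_cases hc : Conn ends S
    · have := h1 Sᶜ (nonempty_iff_ne_empty.2 (by simpa using hSne))
        (by rwa [compl_compl])
      rwa [compl_compl] at this
    · obtain ⟨A, B, hA, hB, hd, rfl, hno⟩ := exists_split hS hc
      rw [val_union hd hno]
      refine hP _ _ (ih A ?_ hA ?_) (ih B ?_ hB ?_)
      · refine Finset.ssubset_iff_subset_ne.2 ⟨subset_union_left, fun he => ?_⟩
        obtain ⟨b, hb⟩ := hB
        exact disjoint_right.1 hd hb (he ▸ mem_union_right A hb)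
      · intro he
        obtain ⟨b, hb⟩ := hB
        exact disjoint_right.1 hd hb (he ▸ mem_univ b)
      · refine Finset.ssubset_iff_subset_ne.2 ⟨subset_union_right, fun he => ?_⟩
        obtain ⟨a, ha⟩ := hA
        exact disjoint_left.1 hd ha (he ▸ mem_union_left B ha)
      · intro he
        obtain ⟨a, ha⟩ := hA
        exact disjoint_left.1 hd ha (he ▸ mem_univ a)

lemma elementary_nonempty {ends : E → V × V} {S : Finset V} (h : IsElementary ends S) :
    S.Nonempty ∧ S ≠ univ := by
  refine ⟨(conn_iff.1 h.1).1, fun he => ?_⟩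
  have := (conn_iff.1 h.2).1
  rw [he, compl_univ] at this
  exact not_nonempty_empty this

section Tree

variable {ends : E → V × V}

lemma mem_side {e : E} {v : V} :
    v ∈ side ends e ↔
      Relation.ReflTransGen (AdjIn ends (univ.erase e)) (ends e).1 v := by
  simp only [side, mem_filter, mem_univ, true_and]
  constructor
  · refine Relation.ReflTransGen.mono ?_ _ _
    rintro a b ⟨⟨x, hx⟩, h⟩
    exact ⟨x, hx, h⟩
  · refine Relation.ReflTransGen.mono ?_ _ _
    rintro a b ⟨x, hx, h⟩
    exact ⟨⟨x, hx⟩, h⟩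

lemma fst_mem_side (e : E) : (ends e).1 ∈ side ends e := mem_side.2 .refl

lemma mem_side_iff_of_ne {e e' : E} (h : e' ≠ e) :
    (ends e').1 ∈ side ends e ↔ (ends e').2 ∈ side ends e := by
  simp only [mem_side]
  exact ⟨fun hh => hh.tail ⟨e', by simp [h], Or.inl rfl⟩,
    fun hh => hh.tail ⟨e', by simp [h], Or.inr rfl⟩⟩

lemma snd_notMem_side (hF : DualGr.IsForest ends) (e : E) : (ends e).2 ∉ side ends e := by
  intro h
  obtain ⟨P, hP, hb⟩ := exists_chain (mem_side.1 h)
  have := eq_zero_of_cycle_on_acyclic (F := univ) (fun C _ => hF C) (Pi.single e 1 - P)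
    (fun x hx => absurd (mem_univ x) hx) (fun v => by
      rw [sub_eq_add_neg, boundary_add, ← neg_one_smul ℤ P, boundary_smul, hb, boundary_single]
      ring)
  have := congrFun this e
  simp [hP e (by simp)] at this

/-- Net flow out of the vertices of an edge function. -/
def flow {R : Type*} [CommRing R] (ends : E → V × V) (c : E → R) (v : V) : R :=
  ∑ e, ((if (ends e).1 = v then c e else 0) - (if (ends e).2 = v then c e else 0))

lemma sum_flow {R : Type*} [CommRing R] (c : E → R) (S : Finset V) :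
    ∑ v ∈ S, flow ends c v =
      ∑ e, ((if (ends e).1 ∈ S then c e else 0) - (if (ends e).2 ∈ S then c e else 0)) := by
  unfold flow
  rw [sum_comm]
  refine sum_congr rfl fun e _ => ?_
  rw [sum_sub_distrib, sum_ite_eq, sum_ite_eq]

lemma sum_side_flow {R : Type*} [CommRing R] (hF : DualGr.IsForest ends) (c : E → R) (e : E) :
    ∑ v ∈ side ends e, flow ends c v = c e := by
  rw [sum_flow, sum_eq_single e]
  · rw [if_pos (fst_mem_side e), if_neg (snd_notMem_side hF e), sub_zero]
  · intro e' _ he'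
    by_cases h : (ends e').1 ∈ side ends e
    · rw [if_pos h, if_pos ((mem_side_iff_of_ne he').1 h), sub_self]
    · rw [if_neg h, if_neg fun h' => h ((mem_side_iff_of_ne he').2 h'), sub_self]
  · simp

lemma exists_flow {R : Type*} [CommRing R] (hc : LabGraph.Connected ends) (ψ : V → R)
    (hψ : ∑ v, ψ v = 0) : ∃ c : E → R, ∀ v, flow ends c v = ψ v := by
  obtain ⟨r⟩ := hc.1
  have hr : ∀ v, Relation.ReflTransGen (AdjIn ends univ) r v := fun v =>
    Relation.ReflTransGen.mono (fun _ _ ⟨e, he⟩ => ⟨e, mem_univ e, he⟩) _ _ (hc.2 r v)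
  choose P _ hP using fun v => exists_chain (hr v)
  refine ⟨fun e => -∑ w, ψ w * (P w e : R), fun v => ?_⟩
  have hb : ∀ w, flow ends (fun e => (P w e : R)) v =
      -((if w = v then (1 : R) else 0) - (if r = v then 1 else 0)) := fun w => by
    have := congrArg (fun z : ℤ => (z : R)) (hP w v)
    simp only [boundary, Int.cast_sum, Int.cast_sub, Int.cast_ite, Int.cast_zero,
      Int.cast_one] at this
    rw [← this, flow, ← sum_neg_distrib]
    exact sum_congr rfl fun e _ => by ring
  have hlin : flow ends (fun e => -∑ w, ψ w * (P w e : R)) v =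
      -∑ w, ψ w * flow ends (fun e => (P w e : R)) v := by
    simp only [flow, mul_sum]
    rw [sum_comm, ← sum_neg_distrib]
    refine sum_congr rfl fun e _ => ?_
    split_ifs <;> simp [mul_sub]
  rw [hlin]
  simp only [hb, mul_neg, sum_neg_distrib, neg_neg, mul_sub, sum_sub_distrib, mul_ite, mul_one,
    mul_zero, sum_ite_eq', mem_univ, if_true]
  split_ifs with h
  · rw [hψ, sub_zero]
  · simp

/-- Vertex functions on a tree with prescribed side sums and total. -/
theorem existsUnique_sideSum {R : Type*} [CommRing R] (hT : DualGr.IsTree ends) (c : E → R)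
    (c₀ : R) : ∃! φ : V → R, (∀ e, ∑ v ∈ side ends e, φ v = c e) ∧ ∑ v, φ v = c₀ := by
  obtain ⟨r⟩ := hT.1.1
  let lam : E → R := fun e => c e - if r ∈ side ends e then c₀ else 0
  refine ⟨fun v => (if r = v then c₀ else 0) + flow ends lam v, ⟨fun e => ?_, ?_⟩, ?_⟩
  · rw [sum_add_distrib, sum_side_flow hT.2, sum_ite_eq]
    simp [lam]
  · rw [sum_add_distrib, sum_flow, sum_ite_eq]
    simp
  · intro φ ⟨h1, h2⟩
    let ψ : V → R := fun v => φ v - ((if r = v then c₀ else 0) + flow ends lam v)
    have hψ : ∑ v, ψ v = 0 := by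
      simp only [ψ, sum_sub_distrib, h2, sum_add_distrib, sum_flow, sum_ite_eq, mem_univ, if_true]
      simp
    obtain ⟨d, hd⟩ := exists_flow hT.1 ψ hψ
    have hd0 : ∀ e, d e = 0 := fun e => by
      rw [← sum_side_flow hT.2 d e]
      simp only [hd, ψ, sum_sub_distrib, sum_add_distrib, sum_side_flow hT.2, sum_ite_eq, h1, lam]
      ring
    funext v
    have := hd v
    rw [flow] at this
    simp only [hd0, ite_self, sub_self, sum_const_zero, ψ] at this
    exact (sub_eq_zero.1 this.symm)

lemma elementary_tree_eq (hT : DualGr.IsTree ends) {S : Finset V} (hS : IsElementary ends S) :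
    ∃ e, S = side ends e ∨ Sᶜ = side ends e := by
  obtain ⟨h1, h2⟩ := hS
  rw [conn_iff] at h1 h2
  obtain ⟨s, hs⟩ := h1.1
  obtain ⟨t, ht⟩ := h2.1
  have : ∀ v, Relation.ReflTransGen (LabGraph.Adj ends) v t → v ∈ S →
      ∃ a ∈ S, ∃ b, b ∉ S ∧ LabGraph.Adj ends a b := by
    intro v hr
    induction hr using Relation.ReflTransGen.head_induction_on with
    | refl => exact fun h => absurd h (mem_compl.1 ht)
    | @head a c hac _ ih =>
      intro ha
      by_cases hc : c ∈ S
      · exact ih hc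
      · exact ⟨a, ha, c, hc, hac⟩
  obtain ⟨a, ha, b, hb, e, he⟩ := this s (hT.1.2 s t) hs
  refine ⟨e, ?_⟩
  have aux : ∀ X : Finset V, Conn ends X → Conn ends Xᶜ → (ends e).1 ∈ X → (ends e).2 ∉ X →
      X = side ends e := by
    intro X hX hXc hfst hsnd
    have hsub : ∀ Y : Finset V, ((ends e).1 ∉ Y ∨ (ends e).2 ∉ Y) →
        PhiStab.inner ends Y ⊆ univ.erase e := fun Y hY x hx => by
      refine mem_erase.2 ⟨?_, mem_univ x⟩
      rintro rfl
      simp only [PhiStab.inner, mem_filter, mem_univ, true_and] at hx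
      tauto
    ext v
    constructor
    · intro hv
      exact mem_side.2 (reach_mono (hsub X (Or.inr hsnd)) (hX.2 _ hfst v hv))
    · intro hv
      by_contra hvX
      refine snd_notMem_side hT.2 e (mem_side.2 ((mem_side.1 hv).trans ?_))
      exact reach_mono (hsub Xᶜ (Or.inl fun h => mem_compl.1 h hfst))
        (hXc.2 v (mem_compl.2 hvX) _ (mem_compl.2 hsnd))
  rcases he with he | he
  · exact Or.inl (aux S h1 h2 (by rw [he]; exact ha) (by rw [he]; exact hb))
  · exact Or.inr (aux Sᶜ h2 (by rwa [compl_compl]) (by rw [he]; exact mem_compl.2 hb)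
      (by rw [he]; simpa using ha))

lemma val_side_add (hT : DualGr.IsTree ends) (φ : V → ℝ) (m : V → ℤ) (e : E) :
    val ends φ m ∅ (side ends e) =
        ∑ v ∈ side ends e, ((m v : ℝ) - φ v) + 1 / 2 ∧
      val ends φ m ∅ (side ends e)ᶜ =
        ∑ v ∈ (side ends e)ᶜ, ((m v : ℝ) - φ v) + 1 / 2 := by
  have key : ∀ e', e' ≠ e →
      ((ends e').1 ∈ side ends e ↔ (ends e').2 ∈ side ends e) := fun e' h => mem_side_iff_of_ne h
  constructor <;>
  · rw [val_eq_sum]
    congr 1
    rw [sum_eq_single e]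
    · simp [ew, fst_mem_side, snd_notMem_side hT.2]
    · intro e' _ h
      have := key e' h
      by_cases h1 : (ends e').1 ∈ side ends e
      · simp [ew, h1, this.1 h1]
      · have h2 : (ends e').2 ∉ side ends e := fun h2 => h1 (this.2 h2)
        simp [ew, h1, h2]
    · simp

/-- A datum on a tree is stable or semistable exactly when the edge inequalities hold. -/
lemma tree_forall_iff (hT : DualGr.IsTree ends) (φ : V → ℝ) (m : V → ℤ)
    (htot : ∑ v, φ v = ∑ v, (m v : ℝ)) (P : ℝ → Prop) (hP : ∀ x y, P x → P y → P (x + y)) :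
    (∀ S : Finset V, S.Nonempty → S ≠ univ → P (val ends φ m ∅ S)) ↔
      ∀ e, P (∑ v ∈ side ends e, ((m v : ℝ) - φ v) + 1 / 2) ∧
        P (-(∑ v ∈ side ends e, ((m v : ℝ) - φ v)) + 1 / 2) := by
  have htot' : ∑ v, φ v = (totDeg m (∅ : Finset E) : ℝ) := by
    rw [htot, totDeg]; simp
  have hcompl : ∀ S : Finset V,
      ∑ v ∈ Sᶜ, ((m v : ℝ) - φ v) = -∑ v ∈ S, ((m v : ℝ) - φ v) := fun S => by
    have := sum_add_sum_compl S fun v => (m v : ℝ) - φ v
    rw [show ∑ v, ((m v : ℝ) - φ v) = 0 from by rw [sum_sub_distrib, htot, sub_self]] at this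
    linarith
  constructor
  · intro h e
    obtain ⟨h1, h2⟩ := val_side_add hT φ m e
    refine ⟨h1 ▸ h _ ⟨_, fst_mem_side e⟩ ?_, ?_⟩
    · exact fun he => snd_notMem_side hT.2 e (he ▸ mem_univ _)
    · rw [← hcompl, ← h2]
      refine h _ ⟨(ends e).2, mem_compl.2 (snd_notMem_side hT.2 e)⟩ fun he => ?_
      exact mem_compl.1 (he ▸ mem_univ (ends e).1) (fst_mem_side e)
  · intro h
    refine forall_of_elementary hT.1 htot' P hP fun S hS => ?_
    obtain ⟨e, he | he⟩ := elementary_tree_eq hT hS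
    · rw [he, (val_side_add hT φ m e).1]
      exact (h e).1
    · rw [← compl_compl S, he, (val_side_add hT φ m e).2, hcompl]
      exact (h e).2

end Tree

/-- The parameter transported to the spanning tree. -/
noncomputable def treeParam (ends : E → V × V) (T : Finset E) (φ : V → ℝ) (v : V) : ℝ :=
  φ v - (endCount ends Tᶜ v : ℝ) / 2

lemma val_spanEnds (ends : E → V × V) (T : Finset E) (φ : V → ℝ) (m : V → ℤ) (S : Finset V) :
    val ends φ m Tᶜ S = val (spanEnds ends T) (treeParam ends T φ) m ∅ S := by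
  rw [val_eq_sum, val_eq_sum]
  have h1 : ∑ e, ew ends Tᶜ S e = ∑ e ∈ T, ew ends Tᶜ S e + ∑ e ∈ Tᶜ, ew ends Tᶜ S e :=
    (sum_add_sum_compl T _).symm
  have h2 : ∑ e : {e // e ∈ T}, ew (spanEnds ends T) ∅ S e = ∑ e ∈ T, ew ends Tᶜ S e := by
    rw [← sum_coe_sort T fun e => ew ends Tᶜ S e]
    exact sum_congr rfl fun e _ => by simp [ew, spanEnds, e.2]
  have h3 : ∑ e ∈ Tᶜ, ew ends Tᶜ S e = ∑ v ∈ S, (endCount ends Tᶜ v : ℝ) / 2 := by
    rw [← sum_div, ← Nat.cast_sum, sum_endCount_mem, Nat.cast_sum, sum_div]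
    refine sum_congr rfl fun e he => ?_
    by_cases ha : (ends e).1 ∈ S <;> by_cases hb : (ends e).2 ∈ S <;> simp [ew, he, ha, hb]
  simp only [treeParam]
  rw [h1, h2, h3]
  simp only [sum_sub_distrib]
  ring

lemma sum_treeParam (ends : E → V × V) (T : Finset E) (φ : V → ℝ) :
    ∑ v, treeParam ends T φ v = ∑ v, φ v - (Tᶜ.card : ℝ) := by
  simp only [treeParam, sum_sub_distrib]
  congr 1
  rw [← sum_div, ← Nat.cast_sum, sum_endCount_mem]
  simp

/-- On a spanning tree there is exactly one stable datum of each degree. -/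
theorem existsUnique_stable {ends : E → V × V} (T : Finset E)
    (hT : DualGr.IsTree (spanEnds ends T)) (b : ℤ) (φ : V → ℝ) (hφ : ∑ v, φ v = (b : ℝ))
    (hnd : Nondegenerate ends φ) :
    ∃! m : V → ℤ, totDeg m Tᶜ = b ∧ IsStable ends φ m Tᶜ := by
  let φ' := treeParam ends T φ
  let a : {e // e ∈ T} → ℝ := fun e => ∑ v ∈ side (spanEnds ends T) e, φ' v
  have htot : ∀ m : V → ℤ, totDeg m Tᶜ = b → ∑ v, φ' v = ∑ v, (m v : ℝ) := fun m hm => by
    rw [sum_treeParam, hφ, ← hm, totDeg]
    push_cast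
    ring
  have hiff : ∀ m : V → ℤ, totDeg m Tᶜ = b →
      (IsStable ends φ m Tᶜ ↔ ∀ e, 0 < (∑ v ∈ side (spanEnds ends T) e, (m v : ℝ)) - a e + 1 / 2 ∧
        0 < -((∑ v ∈ side (spanEnds ends T) e, (m v : ℝ)) - a e) + 1 / 2) := fun m hm => by
    rw [isStable_iff]
    simp only [val_spanEnds]
    rw [tree_forall_iff hT φ' m (htot m hm) (0 < ·) fun _ _ => add_pos]
    simp [sum_sub_distrib, a]
  obtain ⟨m, ⟨hm1, hm2⟩, -⟩ := existsUnique_sideSum hT
    (fun e => ⌈a e - 1 / 2⌉) (b - (Tᶜ.card : ℤ))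
  have hmb : totDeg m Tᶜ = b := by rw [totDeg, hm2]; ring
  have hss : IsSemistable ends φ m Tᶜ := by
    rw [isSemistable_iff]
    simp only [val_spanEnds]
    rw [tree_forall_iff hT φ' m (htot m hmb) (0 ≤ ·) fun _ _ => add_nonneg]
    intro e
    rw [sum_sub_distrib, ← Int.cast_sum, hm1 e]
    have h1 := Int.le_ceil (a e - 1 / 2)
    have h2 := Int.ceil_lt_add_one (a e - 1 / 2)
    simp only [a] at h1 h2 ⊢
    constructor <;> linarith
  refine ⟨m, ⟨hmb, hnd m Tᶜ (by rw [hφ, hmb]) hss⟩, fun m' ⟨hm', hst⟩ => ?_⟩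
  have hst0 := (hiff m hmb).1 (hnd m Tᶜ (by rw [hφ, hmb]) hss)
  have hst' := (hiff m' hm').1 hst
  obtain ⟨u, -, hu⟩ := existsUnique_sideSum hT
    (fun e => ∑ v ∈ side (spanEnds ends T) e, m v) (b - (Tᶜ.card : ℤ))
  refine (hu m' ⟨fun e => ?_, by rw [← hm', totDeg]; ring⟩).trans
    (hu m ⟨fun e => rfl, hm2⟩).symm
  have h1 := hst0 e
  have h2 := hst' e
  rw [← Int.cast_sum] at h1 h2
  have e1 : ((∑ v ∈ side (spanEnds ends T) e, m' v : ℤ) : ℝ) <
      ((∑ v ∈ side (spanEnds ends T) e, m v : ℤ) : ℝ) + 1 := by linarith [h1.1, h2.2]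
  have e2 : ((∑ v ∈ side (spanEnds ends T) e, m v : ℤ) : ℝ) <
      ((∑ v ∈ side (spanEnds ends T) e, m' v : ℤ) : ℝ) + 1 := by linarith [h1.2, h2.1]
  norm_cast at e1 e2
  omega

/-- An elementary set is a side of some spanning tree. -/
lemma exists_tree_side {ends : E → V × V} (hconn : LabGraph.Connected ends) {S : Finset V}
    (hS : IsElementary ends S) :
    ∃ T : Finset E, ∃ e₀ : {e // e ∈ T}, DualGr.IsTree (spanEnds ends T) ∧
      (S = side (spanEnds ends T) e₀ ∨ Sᶜ = side (spanEnds ends T) e₀) := by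
  classical
  obtain ⟨h1, h2⟩ := hS
  rw [conn_iff] at h1 h2
  obtain ⟨s, hs⟩ := h1.1
  obtain ⟨t, ht⟩ := h2.1
  have : ∀ v, Relation.ReflTransGen (LabGraph.Adj ends) v t → v ∈ S →
      ∃ a ∈ S, ∃ b, b ∉ S ∧ LabGraph.Adj ends a b := by
    intro v hr
    induction hr using Relation.ReflTransGen.head_induction_on with
    | refl => exact fun h => absurd h (mem_compl.1 ht)
    | @head a c hac _ ih =>
      intro ha
      by_cases hc : c ∈ S
      · exact ih hc
      · exact ⟨a, ha, c, hc, hac⟩
  obtain ⟨a, ha, b, hb, e₀, he₀⟩ := this s (hconn.2 s t) hs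
  let T₀ := insert e₀ (PhiStab.inner ends S ∪ PhiStab.inner ends Sᶜ)
  let Good : Finset E → Prop := fun T => ∀ v w, Relation.ReflTransGen (AdjIn ends T) v w
  have hT₀ : Good T₀ := by
    have hab : Relation.ReflTransGen (AdjIn ends T₀) a b :=
      .single ⟨e₀, mem_insert_self _ _, he₀⟩
    have hin : ∀ X, (X = S ∨ X = Sᶜ) → PhiStab.inner ends X ⊆ T₀ := fun X hX x hx => by
      rcases hX with rfl | rfl <;> simp [T₀, hx]
    have hto : ∀ v, Relation.ReflTransGen (AdjIn ends T₀) a v := fun v => by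
      by_cases hv : v ∈ S
      · exact reach_mono (hin S (Or.inl rfl)) (h1.2 a ha v hv)
      · exact hab.trans (reach_mono (hin Sᶜ (Or.inr rfl))
          (h2.2 b (mem_compl.2 hb) v (mem_compl.2 hv)))
    exact fun v w => (reach_symm (hto v)).trans (hto w)
  obtain ⟨T, hTT₀, hTmin⟩ := Finset.exists_le_minimal (univ.filter Good)
    (mem_filter.2 ⟨mem_univ T₀, hT₀⟩)
  have hTg : Good T := (mem_filter.1 hTmin.1).2
  have hTa : Acyclic ends T := by
    intro C hC hc
    obtain ⟨x, hx⟩ := hc.1
    have hr := reach_mono (erase_subset_erase x hC) (reach_erase hc.2.1 hx)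
    have hg : Good (T.erase x) := fun v w => by
      induction hTg v w with
      | refl => exact .refl
      | @tail p q _ hpq ih =>
        refine ih.trans ?_
        obtain ⟨y, hy, hy'⟩ := hpq
        by_cases hyx : y = x
        · subst hyx
          rcases hy' with hy' | hy' <;> rw [hy'] at hr
          · exact hr
          · exact reach_symm hr
        · exact .single ⟨y, mem_erase.2 ⟨hyx, hy⟩, hy'⟩
    have := hTmin.2 (mem_filter.2 ⟨mem_univ _, hg⟩) (erase_subset x T)
    exact notMem_erase x T (this (hC hx))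
  have htree : DualGr.IsTree (spanEnds ends T) :=
    (isSpanningTree_iff ends hconn.1 T).2 ⟨hTa, hTg⟩
  have hin : ∀ x ∈ T, x ≠ e₀ → ((ends x).1 ∈ S ↔ (ends x).2 ∈ S) := by
    intro x hx hne
    rcases mem_insert.1 (hTT₀ hx) with h | h
    · exact absurd h hne
    · simp only [mem_union, PhiStab.inner, mem_filter, mem_univ, true_and, mem_compl] at h
      tauto
  have he₀T : e₀ ∈ T := by
    by_contra hne
    have : ∀ v, Relation.ReflTransGen (AdjIn ends T) a v → v ∈ S := by
      intro v hv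
      induction hv with
      | refl => exact ha
      | tail _ hpq ih =>
        obtain ⟨x, hx, hx'⟩ := hpq
        have := hin x hx fun h => hne (h ▸ hx)
        rcases hx' with hx' | hx' <;> rw [hx'] at this
        · exact this.1 ih
        · exact this.2 ih
    exact hb (this b (hTg a b))
  refine ⟨T, ⟨e₀, he₀T⟩, htree, ?_⟩
  set E₀ : {e // e ∈ T} := ⟨e₀, he₀T⟩
  have hall : ∀ v, v ∈ side (spanEnds ends T) E₀ ↔ ((ends e₀).1 ∈ S ↔ v ∈ S) := by
    have hpres : ∀ p q, Relation.ReflTransGen
        (AdjIn (spanEnds ends T) (univ.erase E₀)) p q → (p ∈ S ↔ q ∈ S) := by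
      intro p q h
      induction h with
      | refl => rfl
      | tail _ hpq ih =>
        obtain ⟨⟨x, hx⟩, hxne, hx'⟩ := hpq
        have := hin x hx fun h => (mem_erase.1 hxne).1 (Subtype.ext h)
        refine ih.trans ?_
        change ends x = _ ∨ ends x = _ at hx'
        rcases hx' with hx' | hx' <;> rw [hx'] at this
        · exact this
        · exact this.symm
    have hdich : ∀ v, Relation.ReflTransGen (AdjIn (spanEnds ends T) (univ.erase E₀))
          (ends e₀).1 v ∨
        Relation.ReflTransGen (AdjIn (spanEnds ends T) (univ.erase E₀)) (ends e₀).2 v := by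
      intro v
      induction htree.1.2 (ends e₀).1 v with
      | refl => exact Or.inl .refl
      | tail _ hpq ih =>
        obtain ⟨x, hx'⟩ := hpq
        by_cases hx : x = E₀
        · subst hx
          rcases hx' with hx' | hx'
          · exact Or.inr (by have := congrArg Prod.snd hx'; simp only [spanEnds, E₀] at this; rw [← this])
          · exact Or.inl (by have := congrArg Prod.fst hx'; simp only [spanEnds, E₀] at this; rw [← this])
        · exact ih.imp (fun h => h.tail ⟨x, by simp [hx], hx'⟩)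
            (fun h => h.tail ⟨x, by simp [hx], hx'⟩)
    intro v
    rw [mem_side]
    refine ⟨fun h => hpres _ _ h, fun h => ?_⟩
    refine (hdich v).resolve_right fun h' => ?_
    have h'' := hpres _ _ h'
    rcases he₀ with he₀ | he₀ <;> rw [he₀] at h h'' <;> simp_all
  by_cases hf : (ends e₀).1 ∈ S
  · exact Or.inl (by ext v; simp [hall v, hf])
  · exact Or.inr (by ext v; simp [hall v, hf])

end Groth.Agent.PhiStabLib
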